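import Groth.Prelude.Def_W4stkflatp2Cpct
import Mathlib.CategoryTheory.Localization.CalculusOfFractions
import Mathlib.AlgebraicGeometry.Morphisms.Proper
import Mathlib.AlgebraicGeometry.Morphisms.Separated
import Mathlib.AlgebraicGeometry.Pullbacks

/-!
# The morphisms inducing an isomorphism of open parts form a right multiplicative system
-/

universe u

open CategoryTheory CategoryTheory.Limits AlgebraicGeometry

namespace Groth.Agent.CpctLib

variable {S : Scheme.{u}}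

@[reassoc]
theorem restr_ι {A B : Cpct.Pair S} (f : A ⟶ B) :
    Cpct.restr f ≫ B.U.ι = A.U.ι ≫ (Cpct.Pair.Hom.bar f).left :=
  Scheme.Hom.resLE_comp_ι _ _

theorem restr_id (A : Cpct.Pair S) : Cpct.restr (𝟙 A) = 𝟙 _ := by
  rw [← cancel_mono A.U.ι, restr_ι]
  simp

theorem restr_comp {A B C : Cpct.Pair S} (f : A ⟶ B) (g : B ⟶ C) :
    Cpct.restr (f ≫ g) = Cpct.restr f ≫ Cpct.restr g := by
  rw [← cancel_mono C.U.ι, restr_ι, Category.assoc, restr_ι, restr_ι_assoc]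
  simp

theorem mem_open {Z : Scheme.{u}} (U : Z.Opens) (x : (U : Scheme.{u})) : U.ι x ∈ U :=
  (SetLike.ext_iff.mp U.opensRange_ι (U.ι x)).mp ⟨x, rfl⟩

/-- Factor a morphism landing in an open through it. -/
theorem exists_factor {Z T : Scheme.{u}} (U : Z.Opens) (g : T ⟶ Z) (h : ∀ x, g x ∈ U) :
    ∃ g' : T ⟶ U, g' ≫ U.ι = g := by
  refine ⟨IsOpenImmersion.lift U.ι g ?_, IsOpenImmersion.lift_fac _ _ _⟩
  rintro _ ⟨x, rfl⟩
  exact (SetLike.ext_iff.mp U.opensRange_ι (g x)).mpr (h x)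

theorem compact_of_iso {Z : Scheme.{u}} (U : Z.Opens) (A : Cpct.Pair S) (v : (U : Scheme.{u}) ⟶ A.U)
    [IsIso v] : IsCompact (U : Set Z) := by
  have : CompactSpace A.U := isCompact_iff_compactSpace.mp A.isCompact
  have : CompactSpace (U : Scheme.{u}) := (Scheme.homeoOfIso (asIso v)).symm.compactSpace
  exact isCompact_iff_compactSpace.mpr this

theorem isoOpen_id (A : Cpct.Pair S) : Cpct.isoOpen S (𝟙 A) := by
  show IsIso _
  rw [restr_id]
  infer_instance

theorem isoOpen_comp {A B C : Cpct.Pair S} (f : A ⟶ B) (g : B ⟶ C) (hf : Cpct.isoOpen S f)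
    (hg : Cpct.isoOpen S g) : Cpct.isoOpen S (f ≫ g) := by
  show IsIso _
  have : IsIso (Cpct.restr f) := hf
  have : IsIso (Cpct.restr g) := hg
  rw [restr_comp]
  infer_instance

theorem ore {X X' Y : Cpct.Pair S} (f : Y ⟶ X) (u : X' ⟶ X) (hu : Cpct.isoOpen S u) :
    ∃ (Y' : Cpct.Pair S) (v : Y' ⟶ Y) (g : Y' ⟶ X'), Cpct.isoOpen S v ∧ v ≫ f = g ≫ u := by
  have : IsIso (Cpct.restr u) := hu
  let fb := (Cpct.Pair.Hom.bar f).left
  let ub := (Cpct.Pair.Hom.bar u).left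
  let P : Scheme.{u} := pullback fb ub
  let p : P ⟶ Y.bar.left := pullback.fst fb ub
  let q : P ⟶ X'.bar.left := pullback.snd fb ub
  have hw : fb ≫ X.bar.hom = Y.bar.hom := Over.w _
  have hw' : ub ≫ X.bar.hom = X'.bar.hom := Over.w _
  have := X.isProper
  have := Y.isProper
  have := X'.isProper
  have : IsProper (ub ≫ X.bar.hom) := hw'.symm ▸ X'.isProper
  have : IsProper ub := IsProper.of_comp ub X.bar.hom
  have hP : IsProper (p ≫ Y.bar.hom) := inferInstance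
  let U : P.Opens := p ⁻¹ᵁ Y.U ⊓ q ⁻¹ᵁ X'.U
  let s : (Y.U : Scheme.{u}) ⟶ X'.bar.left := Cpct.restr f ≫ inv (Cpct.restr u) ≫ X'.U.ι
  have hs : s ≫ ub = Y.U.ι ≫ fb := by
    simp only [s, ub, Category.assoc, ← restr_ι, IsIso.inv_hom_id_assoc]
    exact restr_ι f
  let w : (Y.U : Scheme.{u}) ⟶ P := pullback.lift Y.U.ι s hs.symm
  have hwU : ∀ y, w y ∈ U := fun y => ⟨by
      show p (w y) ∈ Y.U
      rw [← Scheme.Hom.comp_apply, pullback.lift_fst]
      exact mem_open _ y, by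
      show q (w y) ∈ X'.U
      rw [← Scheme.Hom.comp_apply, pullback.lift_snd]
      exact mem_open _ _⟩
  obtain ⟨w', hw'U⟩ := exists_factor U w hwU
  obtain ⟨v0, hv0⟩ := exists_factor Y.U (U.ι ≫ p) (fun x => (mem_open U x).1)
  obtain ⟨g0, hg0⟩ := exists_factor X'.U (U.ι ≫ q) (fun x => (mem_open U x).2)
  have h1 : w' ≫ v0 = 𝟙 _ := by
    rw [← cancel_mono Y.U.ι, Category.assoc, hv0, reassoc_of% hw'U, Category.id_comp]
    exact pullback.lift_fst _ _ _
  have key : g0 = v0 ≫ Cpct.restr f ≫ inv (Cpct.restr u) := by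
    rw [← Category.assoc, IsIso.eq_comp_inv, ← cancel_mono X.U.ι, Category.assoc, Category.assoc, restr_ι, restr_ι,
      reassoc_of% hg0, reassoc_of% hv0]
    simp only [p, q, ub, fb, ← pullback.condition]
  have h2 : v0 ≫ w' = 𝟙 _ := by
    rw [← cancel_mono U.ι, Category.assoc, hw'U, Category.id_comp]
    apply pullback.hom_ext
    · rw [Category.assoc, pullback.lift_fst, hv0]
    · rw [Category.assoc, pullback.lift_snd, ← hg0, key]
      simp only [s, Category.assoc]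
  have : IsIso v0 := ⟨w', h2, h1⟩
  let Y' : Cpct.Pair S := ⟨Over.mk (p ≫ Y.bar.hom), U, hP, compact_of_iso U Y v0⟩
  let v : Y' ⟶ Y := ⟨Over.homMk p rfl, fun x hx => hx.1⟩
  let g : Y' ⟶ X' := ⟨Over.homMk q (by
    show q ≫ X'.bar.hom = p ≫ Y.bar.hom
    rw [← hw, ← hw', ← pullback.condition_assoc]), fun x hx => hx.2⟩
  refine ⟨Y', v, g, ?_, ?_⟩
  · show IsIso (Cpct.restr v)
    have : Cpct.restr v = v0 := by
      rw [← cancel_mono Y.U.ι, restr_ι, hv0]
      rfl
    rw [this]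
    infer_instance
  · apply Cpct.Pair.Hom.ext
    apply Over.OverMorphism.ext
    exact pullback.condition

theorem exists_equalizer_of_restr {X Y : Cpct.Pair S} (f₁ f₂ : X ⟶ Y)
    (hr : Cpct.restr f₁ = Cpct.restr f₂) :
    ∃ (X' : Cpct.Pair S) (t : X' ⟶ X), Cpct.isoOpen S t ∧ t ≫ f₁ = t ≫ f₂ := by
  let a₁ := (Cpct.Pair.Hom.bar f₁).left
  let a₂ := (Cpct.Pair.Hom.bar f₂).left
  have hw₁ : a₁ ≫ Y.bar.hom = X.bar.hom := Over.w _
  have hw₂ : a₂ ≫ Y.bar.hom = X.bar.hom := Over.w _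
  have := X.isProper
  have := Y.isProper
  let Δ := pullback.diagonal Y.bar.hom
  let pr : X.bar.left ⟶ pullback Y.bar.hom Y.bar.hom := pullback.lift a₁ a₂ (hw₁.trans hw₂.symm)
  let E : Scheme.{u} := pullback Δ pr
  let t0 : E ⟶ X.bar.left := pullback.snd Δ pr
  have : IsClosedImmersion t0 := inferInstance
  have heq : t0 ≫ a₁ = t0 ≫ a₂ := by
    have h1 := congrArg (· ≫ pullback.fst Y.bar.hom Y.bar.hom) (pullback.condition (f := Δ) (g := pr))
    have h2 := congrArg (· ≫ pullback.snd Y.bar.hom Y.bar.hom) (pullback.condition (f := Δ) (g := pr))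
    simp only [Δ, pr, Category.assoc, pullback.lift_fst, pullback.lift_snd, pullback.diagonal_fst,
      pullback.diagonal_snd, Category.comp_id] at h1 h2
    exact h1.symm.trans h2
  let U : E.Opens := t0 ⁻¹ᵁ X.U
  have hagree : X.U.ι ≫ a₁ = X.U.ι ≫ a₂ := by
    rw [← restr_ι, ← restr_ι, hr]
  let w : (X.U : Scheme.{u}) ⟶ E := pullback.lift (X.U.ι ≫ a₁) X.U.ι (by
    apply pullback.hom_ext
    · simp only [Δ, pr, Category.assoc, pullback.diagonal_fst, Category.comp_id]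
      rw [pullback.lift_fst]
    · simp only [Δ, pr, Category.assoc, pullback.diagonal_snd, Category.comp_id]
      rw [pullback.lift_snd, hagree])
  obtain ⟨w', hw'⟩ := exists_factor U w (fun x => by
    show t0 (w x) ∈ X.U
    rw [← Scheme.Hom.comp_apply, pullback.lift_snd]
    exact mem_open _ x)
  obtain ⟨v0, hv0⟩ := exists_factor X.U (U.ι ≫ t0) (fun x => mem_open U x)
  have h1 : w' ≫ v0 = 𝟙 _ := by
    rw [← cancel_mono X.U.ι, Category.assoc, hv0, reassoc_of% hw', Category.id_comp]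
    exact pullback.lift_snd _ _ _
  have h2 : v0 ≫ w' = 𝟙 _ := by
    rw [← cancel_mono U.ι, Category.assoc, hw', Category.id_comp, ← cancel_mono t0, Category.assoc,
      pullback.lift_snd, hv0]
  have : IsIso v0 := ⟨w', h2, h1⟩
  let X' : Cpct.Pair S := ⟨Over.mk (t0 ≫ X.bar.hom), U, inferInstanceAs (IsProper (t0 ≫ X.bar.hom)),
    compact_of_iso U X v0⟩
  let t : X' ⟶ X := ⟨Over.homMk t0 rfl, fun x hx => hx⟩
  refine ⟨X', t, ?_, ?_⟩
  · show IsIso (Cpct.restr t)
    have : Cpct.restr t = v0 := by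
      rw [← cancel_mono X.U.ι, restr_ι, hv0]
      rfl
    rw [this]
    infer_instance
  · apply Cpct.Pair.Hom.ext
    apply Over.OverMorphism.ext
    exact heq

theorem exists_equalizer {X Y Y' : Cpct.Pair S} (f₁ f₂ : X ⟶ Y) (s : Y ⟶ Y')
    (hs : Cpct.isoOpen S s) (h : f₁ ≫ s = f₂ ≫ s) :
    ∃ (X' : Cpct.Pair S) (t : X' ⟶ X), Cpct.isoOpen S t ∧ t ≫ f₁ = t ≫ f₂ := by
  have : IsIso (Cpct.restr s) := hs
  exact exists_equalizer_of_restr f₁ f₂
    (by rw [← cancel_mono (Cpct.restr s), ← restr_comp, ← restr_comp, h])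

theorem hasRightCalculusOfFractions : (Cpct.isoOpen S).HasRightCalculusOfFractions where
  id_mem A := isoOpen_id A
  comp_mem f g hf hg := isoOpen_comp f g hf hg
  exists_rightFraction _ _ φ := by
    obtain ⟨Y', v, g, hv, h⟩ := ore φ.f φ.s φ.hs
    exact ⟨⟨v, hv, g⟩, h⟩
  ext _ _ _ f₁ f₂ s hs h := by
    obtain ⟨X', t, ht, h'⟩ := exists_equalizer f₁ f₂ s hs h
    exact ⟨X', t, ht, h'⟩

end Groth.Agent.CpctLib
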