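import Groth.Agent.CpctLib.IsoOpen
import Mathlib.AlgebraicGeometry.Morphisms.Immersion
import Mathlib.AlgebraicGeometry.Morphisms.QuasiSeparated

/-!
# The open part functor is a localization of the category of compactifications
-/

universe u

open CategoryTheory CategoryTheory.Limits AlgebraicGeometry

namespace Groth.Agent.CpctLib

variable {S : Scheme.{u}}

theorem inverts : (Cpct.isoOpen S).IsInvertedBy (Cpct.openFunctor S) := by
  intro A B f hf
  have : IsIso (Cpct.restr f) := hf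
  have : IsIso ((ObjectProperty.ι _ ⋙ Over.forget S).map ((Cpct.openFunctor S).map f)) := hf
  exact isIso_of_reflects_iso _ (ObjectProperty.ι _ ⋙ Over.forget S)

theorem exists_lift [QuasiSeparatedSpace S] (A B : Cpct.Pair S)
    (g : (A.U : Scheme.{u}) ⟶ B.U) (hg : g ≫ B.U.ι ≫ B.bar.hom = A.U.ι ≫ A.bar.hom) :
    ∃ (A' : Cpct.Pair S) (t : A' ⟶ A) (k : A' ⟶ B), Cpct.isoOpen S t ∧ Cpct.restr k = Cpct.restr t ≫ g := by
  have := A.isProper
  have := B.isProper
  let P : Scheme.{u} := pullback A.bar.hom B.bar.hom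
  let p : P ⟶ A.bar.left := pullback.fst _ _
  let q : P ⟶ B.bar.left := pullback.snd _ _
  let f : (A.U : Scheme.{u}) ⟶ P := pullback.lift A.U.ι (g ≫ B.U.ι) (by rw [Category.assoc, hg])
  have hfp : f ≫ p = A.U.ι := pullback.lift_fst _ _ _
  have hfq : f ≫ q = g ≫ B.U.ι := pullback.lift_snd _ _ _
  have : IsImmersion (f ≫ p) := hfp.symm ▸ inferInstance
  have : IsImmersion f := IsImmersion.of_comp f p
  have : IsProper (p ≫ A.bar.hom) := inferInstance
  have : CompactSpace A.U := isCompact_iff_compactSpace.mp A.isCompact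
  have : QuasiSeparatedSpace P := quasiSeparatedSpace_of_quasiSeparated (p ≫ A.bar.hom)
  have : QuasiCompact f := inferInstance
  let U : f.image.Opens := f.toImage.opensRange
  let e : (A.U : Scheme.{u}) ≅ U := f.toImage.isoOpensRange
  have he : e.hom ≫ U.ι = f.toImage := f.toImage.isoOpensRange_hom_ι
  have : IsProper (f.imageι ≫ p ≫ A.bar.hom) := inferInstance
  let A' : Cpct.Pair S := ⟨Over.mk (f.imageι ≫ p ≫ A.bar.hom), U, this, compact_of_iso U A e.inv⟩
  have hmem : ∀ x ∈ U, p (f.imageι x) ∈ A.U ∧ q (f.imageι x) ∈ B.U := by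
    rintro _ ⟨a, rfl⟩
    rw [← Scheme.Hom.comp_apply f.toImage, f.toImage_imageι, ← Scheme.Hom.comp_apply, hfp,
      ← Scheme.Hom.comp_apply, hfq]
    exact ⟨mem_open _ a, mem_open _ _⟩
  let t : A' ⟶ A := ⟨Over.homMk (f.imageι ≫ p) (Category.assoc _ _ _), fun x hx => (hmem x hx).1⟩
  let k : A' ⟶ B := ⟨Over.homMk (f.imageι ≫ q) (by
    show (f.imageι ≫ q) ≫ B.bar.hom = f.imageι ≫ p ≫ A.bar.hom
    rw [Category.assoc]
    simp only [p, q, pullback.condition]), fun x hx => (hmem x hx).2⟩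
  have ht : Cpct.restr t = e.inv := by
    rw [← cancel_epi e.hom, ← cancel_mono A.U.ι, Category.assoc, restr_ι, e.hom_inv_id,
      Category.id_comp, reassoc_of% he]
    exact (f.toImage_imageι_assoc p).trans hfp
  have hk : Cpct.restr k = e.inv ≫ g := by
    rw [← cancel_epi e.hom, ← cancel_mono B.U.ι, Category.assoc, restr_ι, e.hom_inv_id_assoc,
      reassoc_of% he]
    exact (f.toImage_imageι_assoc q).trans hfq
  refine ⟨A', t, k, ?_, by rw [ht, hk]⟩
  show IsIso (Cpct.restr t)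
  rw [ht]
  infer_instance

theorem openFunctor_map_eq {A B : Cpct.Pair S} {f₁ f₂ : A ⟶ B}
    (h : (Cpct.openFunctor S).map f₁ = (Cpct.openFunctor S).map f₂) : Cpct.restr f₁ = Cpct.restr f₂ :=
  congrArg (fun φ => (ObjectProperty.ι _ ⋙ Over.forget S).map φ) h

theorem lift_map {C D : Type*} [Category C] [Category D] {W : MorphismProperty C} (F : C ⥤ D)
    (h : W.IsInvertedBy F) {A B : C} (f : A ⟶ B) :
    (Localization.Construction.lift F h).map (W.Q.map f) = F.map f :=
  eq_of_heq (Functor.hcongr_hom (Localization.Construction.fac F h) f)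

theorem openFunctor_isLocalization [QuasiSeparatedSpace S] :
    (Cpct.openFunctor S).IsLocalization (Cpct.isoOpen S) := by
  let W := Cpct.isoOpen S
  have := hasRightCalculusOfFractions (S := S)
  let G := Localization.Construction.lift (Cpct.openFunctor S) (inverts (S := S))
  have hQ : ∀ {A B : Cpct.Pair S} (f : W.Q.obj A ⟶ W.Q.obj B), ∃ (Z : Cpct.Pair S) (t : Z ⟶ A)
      (k : Z ⟶ B), W t ∧ W.Q.map t ≫ f = W.Q.map k := by
    intro A B f
    obtain ⟨φ, rfl⟩ := Localization.exists_rightFraction W.Q W f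
    exact ⟨φ.X', φ.s, φ.f, φ.hs, φ.map_s_comp_map _ _⟩
  have hfaith : G.Faithful := ⟨fun {X Y} f₁ f₂ h => by
    obtain ⟨A, rfl⟩ := (Localization.Construction.objEquiv W).surjective X
    obtain ⟨B, rfl⟩ := (Localization.Construction.objEquiv W).surjective Y
    change W.Q.obj A ⟶ W.Q.obj B at f₁ f₂
    obtain ⟨Z, t₁, k₁, ht₁, h₁⟩ := hQ f₁
    obtain ⟨Z', t₂, k₂, ht₂, h₂⟩ := hQ (W.Q.map t₁ ≫ f₂)
    have h₁' : W.Q.map t₂ ≫ W.Q.map t₁ ≫ f₁ = W.Q.map (t₂ ≫ k₁) :=
      (congrArg (W.Q.map t₂ ≫ ·) h₁).trans (W.Q.map_comp _ _).symm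
    have e₁ : G.map (W.Q.map t₂ ≫ W.Q.map t₁ ≫ f₁) = G.map (W.Q.map t₂ ≫ W.Q.map t₁ ≫ f₂) := by
      simp only [Functor.map_comp]
      exact congrArg (fun φ => _ ≫ _ ≫ φ) h
    obtain ⟨Z'', t₃, ht₃, h₃⟩ := exists_equalizer_of_restr _ _ (openFunctor_map_eq (S := S)
      ((lift_map _ (inverts (S := S)) (t₂ ≫ k₁)).symm.trans
        ((congrArg G.map h₁').symm.trans
          (e₁.trans ((congrArg G.map h₂).trans (lift_map _ (inverts (S := S)) k₂))))))
    have := W.Q_inverts t₁ ht₁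
    have := W.Q_inverts t₂ ht₂
    have := W.Q_inverts t₃ ht₃
    apply (cancel_epi (W.Q.map t₁)).1
    apply (cancel_epi (W.Q.map t₂)).1
    apply (cancel_epi (W.Q.map t₃)).1
    rw [h₁', h₂, ← Functor.map_comp, h₃, Functor.map_comp]⟩
  have hfull : G.Full := ⟨fun {X Y} g => by
    obtain ⟨A, rfl⟩ := (Localization.Construction.objEquiv W).surjective X
    obtain ⟨B, rfl⟩ := (Localization.Construction.objEquiv W).surjective Y
    obtain ⟨Z, t, k, ht, hk⟩ := exists_lift A B g.hom.left (Over.w g.hom)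
    have := W.Q_inverts t ht
    change (Cpct.openFunctor S).obj A ⟶ (Cpct.openFunctor S).obj B at g
    have := inverts t ht
    let f : W.Q.obj A ⟶ W.Q.obj B := inv (W.Q.map t) ≫ W.Q.map k
    refine ⟨f, ?_⟩
    have e : W.Q.map t ≫ f = W.Q.map k := IsIso.hom_inv_id_assoc _ _
    have e' : (Cpct.openFunctor S).map t ≫ G.map f = (Cpct.openFunctor S).map k :=
      (congrArg (· ≫ G.map f) (lift_map _ (inverts (S := S)) t)).symm.trans
        ((G.map_comp _ _).symm.trans ((congrArg G.map e).trans (lift_map _ (inverts (S := S)) k)))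
    apply (cancel_epi ((Cpct.openFunctor S).map t)).1
    refine e'.trans ?_
    apply (ObjectProperty.ι _).map_injective
    exact Over.OverMorphism.ext hk⟩
  have hess : G.EssSurj := ⟨fun X => by
    obtain ⟨A, ⟨e⟩⟩ := X.property
    exact ⟨W.Q.obj A, ⟨(ObjectProperty.fullyFaithfulι _).preimageIso (X := (Cpct.openFunctor S).obj A) e⟩⟩⟩
  exact ⟨inverts, { faithful := hfaith, full := hfull, essSurj := hess }⟩

end Groth.Agent.CpctLib
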